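import Cfsg.Agent.H358.A3.Def
import Cfsg.Agent.H649.Transport
import Cfsg.Agent.Blocks.OsimaUnion
import Cfsg.Agent.Blocks.PrincipalSection
import Cfsg.Agent.Blocks.Orthogonality
import Cfsg.Agent.Blocks.ExistsModular
import Cfsg.Agent.Characters.ClassMul
import Cfsg.Agent.S0909

/-!
# S4612, A3, first half: `PQ` passes to centralizers of `p`-elements (helper792)

* `PQ.of_same`, `PQ.of_equiv`;
* `PQ.coeff`, `PQ.of_coeff` : `PQ p q G` iff the coefficients of the idempotent of the principal `p`-block are integral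
  at `q`;
* `PQ.sum_eq_zero` : the idempotent vanishes at the `q`-singular elements;
* `PQ.centralizer`.
-/

set_option autoImplicit false

open Cfsg Cfsg.Agent.H317.PQ Cfsg.Agent.Blocks.Local Cfsg.Agent.Blocks.Basic
open scoped ComplexConjugate

namespace Cfsg.Agent.H358.A3

universe u v

variable {p q : ℕ} {G : Type u} [Group G] {H : Type v} [Group H]

theorem PQ.of_same [Finite G] (hq : q.Prime) (h : Same p q G) : PQ p q G := by
  intro M hM χ ψ hs hχ
  have hMp : M.IsPrime := isPrime_of_isPModular hM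
  have h' : B0 p G = B0 q G := h
  rw [h', B0_eq hq hM] at hχ ⊢
  exact Cfsg.Agent.Blocks.Basic.sameBlock_trans hχ hs

theorem B0_irrMap (e : G ≃* H) (χ : IrrCharacter G) : H649.irrMap e χ ∈ B0 p H ↔ χ ∈ B0 p G := by
  have key : ∀ M : Ideal AlgInt, H649.irrMap e χ ∈ principalBlock M H ↔ χ ∈ principalBlock M G := by
    intro M
    exact H649.sameBlock_map_iff e (fun _ : G => (1 : ℂ)) (χ : G → ℂ)
  exact ⟨fun h M hM => (key M).1 (h M hM), fun h M hM => (key M).2 (h M hM)⟩

theorem PQ.of_equiv (e : G ≃* H) (h : PQ p q G) : PQ p q H := by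
  intro M hM χ ψ hs hχ
  have h1 : H649.irrMap e (H649.irrMap e.symm χ) = χ := by
    apply Subtype.ext
    funext x
    change (χ : H → ℂ) (e (e.symm x)) = _
    rw [e.apply_symm_apply]
  have h2 : H649.irrMap e (H649.irrMap e.symm ψ) = ψ := by
    apply Subtype.ext
    funext x
    change (ψ : H → ℂ) (e (e.symm x)) = _
    rw [e.apply_symm_apply]
  rw [← h2, B0_irrMap]
  rw [← h1, B0_irrMap] at hχ
  refine h M hM _ _ ?_ hχ
  rw [← H649.sameBlock_irrMap_iff e, h1, h2]
  exact hs

/-- the coefficients of the idempotent are integral at `q` -/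
theorem PQ.coeff [Finite G] (h : PQ p q G) {M : Ideal AlgInt} (hM : IsPModular q M) (g : G) :
    MemLocalRing M (blockCoeff (B0 p G) g) := by
  have : Fact q.Prime := ⟨hM.1⟩
  exact Cfsg.Agent.Blocks.OsimaUnion.memLocalRing_blockCoeff_union q hM _
    (fun χ hχ ψ hs => h M hM χ ψ hs hχ) g

theorem PQ.of_coeff [Finite G]
    (h : ∀ M : Ideal AlgInt, IsPModular q M → ∀ g : G, MemLocalRing M (blockCoeff (B0 p G) g)) : PQ p q G := by
  intro M hM χ ψ hs hχ
  have : Fact q.Prime := ⟨hM.1⟩
  exact Cfsg.Agent.S0909.result q M hM (B0 p G) (h M hM) χ hχ hs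

/-- the idempotent vanishes at the `q`-singular elements -/
theorem PQ.blockCoeff_eq_zero [Finite G] (hq : q.Prime) (h : PQ p q G) {g : G} (hg : q ∣ orderOf g) :
    blockCoeff (B0 p G) g = 0 := by
  obtain ⟨M, hM⟩ := Cfsg.Agent.Blocks.ExistsModular.exists_isPModular hq
  have : Fact q.Prime := ⟨hq⟩
  have h1 := Cfsg.Agent.Blocks.Orthogonality.weak_block_orthogonality hM (B0 p G) (fun g => h.coeff hM g)
    (x := (1 : G)) (y := g) (by rw [orderOf_one]; exact hq.one_lt.not_ge ∘ Nat.le_of_dvd one_pos) hg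
  rw [blockCoeff, h1, mul_zero]

/-- the idempotent vanishes at the `q`-singular elements -/
theorem PQ.sum_eq_zero [Finite G] (_hp : p.Prime) (hq : q.Prime) (h : PQ p q G) {g : G} (hg : q ∣ orderOf g) :
    ∑ᶠ χ ∈ B0 p G, (χ : G → ℂ) 1 * (χ : G → ℂ) g = 0 := by
  have hg' : q ∣ orderOf g⁻¹ := by rwa [orderOf_inv]
  have h1 := h.blockCoeff_eq_zero hq hg'
  rw [blockCoeff, mul_eq_zero] at h1
  rcases h1 with h1 | h1
  · exfalso
    rw [inv_eq_zero, Nat.cast_eq_zero] at h1
    exact Nat.card_pos.ne' h1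
  · rw [← h1]
    refine finsum_mem_congr rfl fun χ _ => ?_
    rw [Cfsg.Agent.Blocks.Orthogonality.irr_apply_inv χ.2, Complex.conj_conj]

open scoped Classical in
/-- `∑_{u ~ x⁻¹} a_B (u h) = |C(x)|⁻¹ ∑_{χ ∈ B} χ(x) conj χ(h)` -/
theorem sum_class_blockCoeff [Fintype G] (B : Set (IrrCharacter G)) (x h : G) :
    (Nat.card (Subgroup.centralizer ({x} : Set G)) : ℂ)⁻¹ *
      ∑ᶠ χ ∈ B, (χ : G → ℂ) x * conj ((χ : G → ℂ) h) =
    ∑ u with IsConj x⁻¹ u, blockCoeff B (u * h) := by
  have hfin : Finite (IrrCharacter G) := S0909.finite_irr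
  have := Fintype.ofFinite (IrrCharacter G)
  unfold blockCoeff
  simp only [Cfsg.Agent.Blocks.Orthogonality.finsum_mem_eq_sum_filter]
  rw [← Finset.mul_sum, Finset.sum_comm, Finset.mul_sum, Finset.mul_sum]
  refine Finset.sum_congr rfl fun χ _ => ?_
  rw [← Finset.mul_sum, ← map_sum, Cfsg.Agent.Characters.ClassMul.sum_class_char_mul χ.2]
  have h1 : (χ : G → ℂ) 1 ≠ 0 := irr_one_ne_zero χ.2
  have h2 : conj ((χ : G → ℂ) 1) = (χ : G → ℂ) 1 := Cfsg.Agent.Blocks.Orthogonality.conj_irr_one χ.2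
  rw [map_div₀, map_mul, map_mul, h2, Cfsg.Agent.Blocks.Orthogonality.irr_apply_inv χ.2, Complex.conj_conj,
    Complex.conj_natCast]
  have h3 : (Subgroup.centralizer ({x⁻¹} : Set G)) = Subgroup.centralizer ({x} : Set G) := by
    ext y
    rw [Subgroup.mem_centralizer_singleton_iff, Subgroup.mem_centralizer_singleton_iff]
    constructor
    · intro h
      have h' : Commute y x⁻¹ := h
      have h'' := h'.inv_right
      rw [inv_inv] at h''
      exact h''
    · intro h
      have h' : Commute y x := h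
      exact h'.inv_right
  rw [h3]
  have h4 : (Nat.card (Subgroup.centralizer ({x} : Set G)) : ℂ) ≠ 0 := Nat.cast_ne_zero.2 Nat.card_pos.ne'
  have h5 : (Nat.card G : ℂ) = Nat.card (Subgroup.centralizer ({x} : Set G)) *
      ((Subgroup.centralizer ({x} : Set G)).index : ℂ) := by
    rw [← Nat.cast_mul, Subgroup.card_mul_index]
  have h6 : ((Subgroup.centralizer ({x} : Set G)).index : ℂ) ≠ 0 :=
    Nat.cast_ne_zero.2 Subgroup.index_ne_zero_of_finite
  rw [h5]
  field_simp

theorem PQ.centralizer [Finite G] (hp : p.Prime) (_hq : q.Prime) (_hpq : p ≠ q) (h : PQ p q G) {x : G}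
    (hx : ∃ k : ℕ, orderOf x = p ^ k) : PQ p q (Subgroup.centralizer ({x} : Set G)) := by
  have hfp : Fact p.Prime := ⟨hp⟩
  have := Fintype.ofFinite G
  obtain ⟨N, hN⟩ := Cfsg.Agent.Blocks.ExistsModular.exists_isPModular hp
  refine PQ.of_coeff fun M hM y => ?_
  have hMp : M.IsPrime := isPrime_of_isPModular hM
  by_cases hy : p ∣ orderOf y
  · -- the idempotent vanishes at the `p`-singular elements
    have h1 : blockCoeff (B0 p (Subgroup.centralizer ({x} : Set G))) y = 0 := by
      have h2 := Cfsg.Agent.Blocks.Orthogonality.weak_block_orthogonality hN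
        (B0 p (Subgroup.centralizer ({x} : Set G))) (fun g => ?_) (x := 1) (y := y)
        (by rw [orderOf_one]; exact hp.one_lt.not_ge ∘ Nat.le_of_dvd one_pos) hy
      · rw [blockCoeff, h2, mul_zero]
      · rw [B0_eq hp hN]
        exact Cfsg.Agent.Blocks.Osima.memLocalRing_blockCoeff hN
          Cfsg.Agent.Blocks.PrincipalSection.isPBlock_principalBlock g
    rw [h1]
    exact memLocalRing_zero
  · have h1 := Cfsg.Agent.Blocks.PrincipalSection.sum_principalBlock_section hN x hx
      (H := Subgroup.centralizer ({x} : Set G)) rfl 1 y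
      (by rw [orderOf_one]; exact hp.one_lt.not_ge ∘ Nat.le_of_dvd one_pos) hy
    rw [blockCoeff, B0_eq hp hN, ← h1, ← B0_eq hp hN, Subgroup.coe_one, mul_one, sum_class_blockCoeff]
    exact memLocalRing_sum fun u _ => h.coeff hM _

end Cfsg.Agent.H358.A3
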