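import Cfsg.Agent.H792.PQ.A3a
import Cfsg.Agent.H358.A3.Normal
import Cfsg.Agent.Blocks.Deflate

/-!
# S4612, A3: `PQ` passes to centralizers of `p`-subgroups (helper792)

* `PQ.of_quot_center` : `Z` a central `p`-subgroup: `PQ p q (G ⧸ Z)` implies `PQ p q G`;
* `PQ.centralizer_subgroup`.
-/

set_option autoImplicit false

open Cfsg Cfsg.Agent.H317.PQ Cfsg.Agent.Blocks.Local Cfsg.Agent.Blocks.Basic
open scoped ComplexConjugate

namespace Cfsg.Agent.H358.A3

universe u v

variable {p q : ℕ} {G : Type u} [Group G]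

theorem infl_injective (N : Subgroup G) [N.Normal] : Function.Injective (infl N) := by
  intro χ ψ h
  apply Subtype.ext
  funext x
  obtain ⟨g, rfl⟩ := QuotientGroup.mk_surjective x
  exact congrFun (congrArg Subtype.val h) g

/-- the idempotent of the principal `p`-block vanishes at the `p`-singular elements -/
theorem blockCoeff_B0_eq_zero [Finite G] (hp : p.Prime) {y : G} (hy : p ∣ orderOf y) : blockCoeff (B0 p G) y = 0 := by
  have hfp : Fact p.Prime := ⟨hp⟩
  obtain ⟨N, hN⟩ := Cfsg.Agent.Blocks.ExistsModular.exists_isPModular hp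
  have h2 := Cfsg.Agent.Blocks.Orthogonality.weak_block_orthogonality hN (B0 p G) (fun g => ?_) (x := 1) (y := y)
    (by rw [orderOf_one]; exact hp.one_lt.not_ge ∘ Nat.le_of_dvd one_pos) hy
  · rw [blockCoeff, h2, mul_zero]
  · rw [B0_eq hp hN]
    exact Cfsg.Agent.Blocks.Osima.memLocalRing_blockCoeff hN
      Cfsg.Agent.Blocks.PrincipalSection.isPBlock_principalBlock g

/-- inflation from a quotient by a central `p`-subgroup -/
theorem infl_mem_iff [Finite G] (hp : p.Prime) (Z : Subgroup G)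
    [Z.Normal] (hZ : Z ≤ Subgroup.center G) (hZp : IsPGroup p Z) (ψ : IrrCharacter (G ⧸ Z)) :
    infl Z ψ ∈ B0 p G ↔ ψ ∈ B0 p (G ⧸ Z) := by
  refine ⟨fun hψ => ?_, infl_mem hp Z⟩
  have : Fact p.Prime := ⟨hp⟩
  obtain ⟨M, hM⟩ := Blocks.ExistsModular.exists_isPModular hp
  have hMp := isPrime_of_isPModular hM
  rw [B0_eq hp hM] at hψ ⊢
  have hc : Subgroup.centralizer (Z : Set G) = ⊤ := by
    rw [eq_top_iff]
    intro g _
    rw [Subgroup.mem_centralizer_iff]
    intro z hz
    exact (Subgroup.mem_center_iff.1 (hZ hz) g).symm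
  exact ((S0941.result p M hM Z hZp ⟨0, by rw [hc, Subgroup.index_top, pow_zero]⟩).1 (oneC (G ⧸ Z)) ψ).2 hψ

/-- the sum of a character over a coset of a central subgroup -/
theorem sum_center_mul [Finite G] (Z : Subgroup G) [Z.Normal] [Fintype Z] (hZ : Z ≤ Subgroup.center G)
    (χ : IrrCharacter G) (y : G) :
    (∃ χ' : IrrCharacter (G ⧸ Z), infl Z χ' = χ) ∧ ∑ z : Z, (χ : G → ℂ) (z * y) = Nat.card Z * (χ : G → ℂ) y ∨
      (¬ ∃ χ' : IrrCharacter (G ⧸ Z), infl Z χ' = χ) ∧ ∑ z : Z, (χ : G → ℂ) (z * y) = 0 := by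
  have h0 : ∀ χ' : IrrCharacter (G ⧸ Z), infl Z χ' = χ → ∀ (z : Z) (g : G), (χ : G → ℂ) (z * g) = (χ : G → ℂ) g := by
    rintro χ' rfl z g
    rw [infl_apply, Function.comp_apply, Function.comp_apply, QuotientGroup.mk_mul,
      (QuotientGroup.eq_one_iff (N := Z) (z : G)).2 z.2, one_mul]
  by_cases hs : ∑ z : Z, (χ : G → ℂ) z = 0
  · right
    constructor
    · rintro ⟨χ', h⟩
      have h1 : ∑ z : Z, (χ : G → ℂ) z = ∑ _z : Z, (χ : G → ℂ) 1 := by
        refine Finset.sum_congr rfl fun z _ => ?_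
        have := h0 χ' h z 1
        rwa [mul_one] at this
      rw [h1, Finset.sum_const, nsmul_eq_mul, mul_eq_zero] at hs
      rcases hs with hs | hs
      · rw [Nat.cast_eq_zero, Finset.card_eq_zero] at hs
        exact Finset.univ_nonempty.ne_empty hs
      · exact irr_one_ne_zero χ.2 hs
    · have h1 : ∀ z : Z, (χ : G → ℂ) (z * y) * (χ : G → ℂ) 1 = (χ : G → ℂ) z * (χ : G → ℂ) y := by
        intro z
        obtain ⟨c, -, hc⟩ := Cfsg.Agent.Blocks.CentralizerSum.exists_central_scalar χ.2 (hZ z.2)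
        have h2 := hc 1
        rw [mul_one] at h2
        rw [hc y, h2]
        ring
      have h2 : (∑ z : Z, (χ : G → ℂ) (z * y)) * (χ : G → ℂ) 1 = 0 := by
        rw [Finset.sum_mul, Finset.sum_congr rfl (fun z _ => h1 z), ← Finset.sum_mul, hs, zero_mul]
      exact (mul_eq_zero.1 h2).resolve_right (irr_one_ne_zero χ.2)
  · left
    obtain ⟨χ', h⟩ := Cfsg.Agent.Blocks.Deflate.exists_deflation Z (χ : G → ℂ) χ.2 hs
    have h1 : infl Z χ' = χ := Subtype.ext (by rw [infl_apply]; exact h.symm)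
    refine ⟨⟨χ', h1⟩, ?_⟩
    rw [Finset.sum_congr rfl (fun z _ => h0 χ' h1 z y), Finset.sum_const, nsmul_eq_mul, Finset.card_univ,
      Nat.card_eq_fintype_card]

/-- the coefficient of the idempotent in a quotient by a central `p`-subgroup -/
theorem blockCoeff_quot_center [Finite G] (hp : p.Prime) (Z : Subgroup G)
    [Z.Normal] (hZ : Z ≤ Subgroup.center G) (hZp : IsPGroup p Z) {y : G} (hy : ¬ p ∣ orderOf y) :
    blockCoeff (B0 p G) y = blockCoeff (B0 p (G ⧸ Z)) (QuotientGroup.mk y : G ⧸ Z) := by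
  classical
  have := Fintype.ofFinite Z
  have hfin : Finite (IrrCharacter G) := S0909.finite_irr
  have := Fintype.ofFinite (IrrCharacter G)
  have hfp : Fact p.Prime := ⟨hp⟩
  -- only `z = 1` contributes
  have h1 : ∑ z : Z, blockCoeff (B0 p G) (z * y) = blockCoeff (B0 p G) y := by
    rw [Finset.sum_eq_single (1 : Z)]
    · rw [Subgroup.coe_one, one_mul]
    · intro z _ hz
      apply blockCoeff_B0_eq_zero hp
      obtain ⟨k, hk⟩ := hZp z
      obtain ⟨j, -, hj⟩ := (Nat.dvd_prime_pow hp).1 (orderOf_dvd_of_pow_eq_one hk)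
      have hj0 : j ≠ 0 := by
        rintro rfl
        rw [pow_zero, orderOf_eq_one_iff] at hj
        exact hz hj
      have hcomm : Commute (z : G) y := (Subgroup.mem_center_iff.1 (hZ z.2) y).symm
      have hcop : (orderOf (z : G)).Coprime (orderOf y) := by
        rw [Subgroup.orderOf_coe, hj]
        exact Nat.Coprime.pow_left _ ((hp.coprime_iff_not_dvd).2 hy)
      rw [hcomm.orderOf_mul_eq_mul_orderOf_of_coprime hcop, Subgroup.orderOf_coe, hj]
      exact (dvd_pow_self p hj0).mul_right _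
    · intro h
      exact absurd (Finset.mem_univ _) h
  rw [← h1]
  unfold blockCoeff
  rw [← Finset.mul_sum]
  simp only [Cfsg.Agent.Blocks.Orthogonality.finsum_mem_eq_sum_filter]
  rw [Finset.sum_comm]
  have h2 : ∀ χ : IrrCharacter G, ∑ z : Z, (χ : G → ℂ) 1 * conj ((χ : G → ℂ) (z * y)) =
      if (∃ χ' : IrrCharacter (G ⧸ Z), infl Z χ' = χ) then Nat.card Z * ((χ : G → ℂ) 1 * conj ((χ : G → ℂ) y))
      else 0 := by
    intro χ
    rw [← Finset.mul_sum, ← map_sum]
    rcases sum_center_mul Z hZ χ y with ⟨h, h3⟩ | ⟨h, h3⟩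
    · rw [if_pos h, h3, map_mul, Complex.conj_natCast]
      ring
    · rw [if_neg h, h3, map_zero, mul_zero]
  rw [Finset.sum_congr rfl (fun χ _ => h2 χ), ← Finset.sum_filter, Finset.filter_filter, ← Finset.mul_sum]
  have hfin' : Finite (IrrCharacter (G ⧸ Z)) := S0909.finite_irr
  have := Fintype.ofFinite (IrrCharacter (G ⧸ Z))
  have h3 : ∑ χ : IrrCharacter G with (χ ∈ B0 p G ∧ ∃ χ' : IrrCharacter (G ⧸ Z), infl Z χ' = χ),
      (χ : G → ℂ) 1 * conj ((χ : G → ℂ) y) =
      ∑ᶠ χ ∈ B0 p (G ⧸ Z), (χ : G ⧸ Z → ℂ) 1 * conj ((χ : G ⧸ Z → ℂ) (QuotientGroup.mk y)) := by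
    rw [Cfsg.Agent.Blocks.Orthogonality.finsum_mem_eq_sum_filter]
    symm
    refine Finset.sum_bij (fun χ _ => infl Z χ) ?_ ?_ ?_ ?_
    · intro χ hχ
      rw [Finset.mem_filter] at hχ ⊢
      exact ⟨Finset.mem_univ _, (infl_mem_iff hp Z hZ hZp χ).2 hχ.2, χ, rfl⟩
    · intro χ _ ψ _ h
      exact infl_injective Z h
    · intro χ hχ
      rw [Finset.mem_filter] at hχ
      obtain ⟨-, hχ, χ', rfl⟩ := hχ
      exact ⟨χ', Finset.mem_filter.2 ⟨Finset.mem_univ _, (infl_mem_iff hp Z hZ hZp χ').1 hχ⟩, rfl⟩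
    · intro χ _
      rw [infl_apply]
      rfl
  refine Eq.trans (congrArg (fun t : ℂ => (Nat.card G : ℂ)⁻¹ * (Nat.card Z * t)) (Eq.trans ?_ h3)) ?_
  · refine Finset.sum_congr ?_ fun _ _ => rfl
    ext χ
    simp only [Finset.mem_filter, Finset.mem_univ, true_and]
  rw [← mul_assoc]
  congr 1
  have h4 : (Nat.card G : ℂ) = Nat.card Z * Nat.card (G ⧸ Z) := by
    rw [← Nat.cast_mul, mul_comm, ← Subgroup.card_eq_card_quotient_mul_card_subgroup]
  have h5 : (Nat.card Z : ℂ) ≠ 0 := Nat.cast_ne_zero.2 Nat.card_pos.ne'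
  have h6 : (Nat.card (G ⧸ Z) : ℂ) ≠ 0 := Nat.cast_ne_zero.2 Nat.card_pos.ne'
  rw [h4]
  field_simp

/-- `Z` a central `p`-subgroup: `PQ p q (G ⧸ Z)` implies `PQ p q G` -/
theorem PQ.of_quot_center [Finite G] (hp : p.Prime) (Z : Subgroup G)
    [Z.Normal] (hZ : Z ≤ Subgroup.center G) (hZp : IsPGroup p Z) (h : PQ p q (G ⧸ Z)) : PQ p q G := by
  refine PQ.of_coeff fun M hM y => ?_
  have hMp : M.IsPrime := isPrime_of_isPModular hM
  by_cases hy : p ∣ orderOf y
  · rw [blockCoeff_B0_eq_zero hp hy]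
    exact memLocalRing_zero
  · rw [blockCoeff_quot_center hp Z hZ hZp hy]
    exact h.coeff hM _

/-- the step of the induction -/
theorem PQ.step [Finite G] (hp : p.Prime) (hq : q.Prime) (hpq : p ≠ q) (Z D : Subgroup G) [Z.Normal]
    (hZ : Z ≤ Subgroup.center G) (hZp : IsPGroup p Z) (hZD : Z ≤ D)
    (h : PQ p q (Subgroup.centralizer ((D.map (QuotientGroup.mk' Z) : Subgroup (G ⧸ Z)) : Set (G ⧸ Z)))) :
    PQ p q (Subgroup.centralizer (D : Set G)) := by
  set C : Subgroup G := Subgroup.centralizer (D : Set G) with hC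
  set K : Subgroup (G ⧸ Z) := Subgroup.centralizer ((D.map (QuotientGroup.mk' Z) : Subgroup (G ⧸ Z)) : Set (G ⧸ Z)) with hK
  have hZC : Z ≤ C := hZ.trans (Subgroup.center_le_centralizer _)
  have hCK : C.map (QuotientGroup.mk' Z) ≤ K := by
    rintro _ ⟨c, hc, rfl⟩
    rw [hK, Subgroup.mem_centralizer_iff]
    rintro _ ⟨d, hd, rfl⟩
    rw [← map_mul, ← map_mul, Subgroup.mem_centralizer_iff.1 hc d hd]
  have hn : ((C.map (QuotientGroup.mk' Z)).subgroupOf K).Normal := by
    refine ⟨fun c hc k => ?_⟩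
    rw [Subgroup.mem_subgroupOf] at hc ⊢
    obtain ⟨c₀, hc₀, hcc⟩ := hc
    obtain ⟨g, hg⟩ := QuotientGroup.mk'_surjective Z (k : G ⧸ Z)
    refine ⟨g * c₀ * g⁻¹, ?_, ?_⟩
    · change g * c₀ * g⁻¹ ∈ Subgroup.centralizer (D : Set G)
      rw [Subgroup.mem_centralizer_iff]
      intro d hd
      have h1 : g⁻¹ * d * g ∈ D := by
        have h2 := Subgroup.mem_centralizer_iff.1 k.2 (QuotientGroup.mk' Z d) ⟨d, hd, rfl⟩
        rw [← hg, ← map_mul, ← map_mul] at h2
        have h3 : (d * g)⁻¹ * (g * d) ∈ Z := QuotientGroup.eq.1 h2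
        have h4 : g⁻¹ * d * g = d * (d⁻¹ * g⁻¹ * d * g) := by group
        rw [h4]
        refine D.mul_mem hd (hZD ?_)
        have h5 := Z.inv_mem h3
        have h6 : d⁻¹ * g⁻¹ * d * g = ((d * g)⁻¹ * (g * d))⁻¹ := by group
        rw [h6]
        exact h5
      have h7 : (g⁻¹ * d * g) * c₀ = c₀ * (g⁻¹ * d * g) := Subgroup.mem_centralizer_iff.1 hc₀ _ h1
      calc d * (g * c₀ * g⁻¹) = g * ((g⁻¹ * d * g) * c₀) * g⁻¹ := by group
        _ = g * (c₀ * (g⁻¹ * d * g)) * g⁻¹ := by rw [h7]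
        _ = g * c₀ * g⁻¹ * d := by group
    · rw [map_mul, map_mul, map_inv, hg, hcc]
      rfl
  have h1 := PQ.normal hp hq hpq h ((C.map (QuotientGroup.mk' Z)).subgroupOf K)
  -- `C / Z`
  have e1 : (C.map (QuotientGroup.mk' Z)).subgroupOf K ≃* C.map (QuotientGroup.mk' Z) :=
    Subgroup.subgroupOfEquivOfLe hCK
  let f : C →* C.map (QuotientGroup.mk' Z) := (QuotientGroup.mk' Z).subgroupMap C
  have hf : Function.Surjective f := (QuotientGroup.mk' Z).subgroupMap_surjective C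
  have hker : f.ker = Z.subgroupOf C := by
    ext c
    rw [MonoidHom.mem_ker, Subgroup.mem_subgroupOf]
    constructor
    · intro hc
      have h2 : QuotientGroup.mk' Z (c : G) = 1 := congrArg Subtype.val hc
      exact (QuotientGroup.eq_one_iff (N := Z) (c : G)).1 h2
    · intro hc
      exact Subtype.ext ((QuotientGroup.eq_one_iff (N := Z) (c : G)).2 hc)
  have e2 : C ⧸ Z.subgroupOf C ≃* C.map (QuotientGroup.mk' Z) :=
    (QuotientGroup.quotientMulEquivOfEq hker.symm).trans (QuotientGroup.quotientKerEquivOfSurjective f hf)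
  have h2 : PQ p q (C ⧸ Z.subgroupOf C) := h1.of_equiv (e1.trans e2.symm)
  refine PQ.of_quot_center hp (Z.subgroupOf C) ?_ ?_ h2
  · intro z hz
    rw [Subgroup.mem_center_iff]
    intro c
    exact Subtype.ext (Subgroup.mem_center_iff.1 (hZ (Subgroup.mem_subgroupOf.1 hz)) (c : G))
  · exact hZp.comap_of_injective C.subtype (Subgroup.subtype_injective C)

theorem PQ.centralizer_subgroup_aux (hp : p.Prime) (hq : q.Prime) (hpq : p ≠ q) (n : ℕ) :
    ∀ (G : Type u) [Group G] [Finite G], PQ p q G → ∀ D : Subgroup G, IsPGroup p D → Nat.card D = n →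
      PQ p q (Subgroup.centralizer (D : Set G)) := by
  induction n using Nat.strong_induction_on with
  | _ n ih =>
  intro G _ _ h D hD hn
  have hfp : Fact p.Prime := ⟨hp⟩
  by_cases hD1 : D = ⊥
  · have h1 : Subgroup.centralizer (D : Set G) = ⊤ := by
      rw [hD1, eq_top_iff]
      intro g _
      rw [Subgroup.mem_centralizer_iff]
      intro d hd
      rw [SetLike.mem_coe, Subgroup.mem_bot] at hd
      rw [hd, one_mul, mul_one]
    exact h.of_equiv (Subgroup.topEquiv.symm.trans (MulEquiv.subgroupCongr h1.symm))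
  · have hnt : Nontrivial D := (Subgroup.nontrivial_iff_ne_bot D).2 hD1
    have hcn := hD.center_nontrivial
    obtain ⟨z, hz1⟩ := exists_ne (1 : Subgroup.center D)
    have hzG : ((z : D) : G) ≠ 1 := fun h => hz1 (Subtype.ext (Subtype.ext h))
    obtain ⟨k, hk⟩ := hD z
    obtain ⟨j, -, hj⟩ := (Nat.dvd_prime_pow hp).1 (orderOf_dvd_of_pow_eq_one hk)
    have hzo : ∃ k : ℕ, orderOf ((z : D) : G) = p ^ k := ⟨j, by rw [Subgroup.orderOf_coe, hj]⟩
    have h1 := h.centralizer hp hq hpq hzo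
    set G₁ : Subgroup G := Subgroup.centralizer ({((z : D) : G)} : Set G) with hG₁
    have hDG : D ≤ G₁ := by
      intro d hd
      rw [hG₁, Subgroup.mem_centralizer_singleton_iff]
      exact congrArg Subtype.val (Subgroup.mem_center_iff.1 z.2 ⟨d, hd⟩)
    have hzG₁ : ((z : D) : G) ∈ G₁ := hDG (z : D).2
    set Z : Subgroup G₁ := Subgroup.zpowers ⟨((z : D) : G), hzG₁⟩ with hZ
    have hZc : Z ≤ Subgroup.center G₁ := by
      rw [hZ, Subgroup.zpowers_le, Subgroup.mem_center_iff]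
      intro g
      exact Subtype.ext (Subgroup.mem_centralizer_singleton_iff.1 g.2)
    have hZn : Z.Normal := ⟨fun a ha g => by
      rw [Subgroup.mem_center_iff.1 (hZc ha) g, mul_inv_cancel_right]
      exact ha⟩
    have hZD : Z ≤ D.subgroupOf G₁ := by
      rw [hZ, Subgroup.zpowers_le, Subgroup.mem_subgroupOf]
      exact (z : D).2
    have hD₁ : IsPGroup p (D.subgroupOf G₁) := hD.comap_of_injective G₁.subtype (Subgroup.subtype_injective G₁)
    have hZp : IsPGroup p Z := hD₁.to_le hZD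
    have hcard : Nat.card (D.subgroupOf G₁) = n := by
      rw [← hn]
      exact Nat.card_congr (Subgroup.subgroupOfEquivOfLe hDG).toEquiv
    have hlt : Nat.card ((D.subgroupOf G₁).map (QuotientGroup.mk' Z)) < n := by
      by_contra hge
      push Not at hge
      rw [← hcard] at hge
      have hb := (MonoidHom.subgroupMap_surjective (QuotientGroup.mk' Z) (D.subgroupOf G₁)).bijective_of_nat_card_le hge
      have h3 : (QuotientGroup.mk' Z).subgroupMap (D.subgroupOf G₁)
          ⟨⟨((z : D) : G), hzG₁⟩, hZD (Subgroup.mem_zpowers _)⟩ = 1 :=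
        Subtype.ext ((QuotientGroup.eq_one_iff (N := Z) _).2 (Subgroup.mem_zpowers _))
      have h4 := hb.1 (h3.trans (map_one _).symm)
      exact hzG (congrArg (fun w : D.subgroupOf G₁ => ((w : G₁) : G)) h4)
    have h5 := ih _ hlt (G₁ ⧸ Z) (PQ.quot_center hp hq hpq h1 Z hZc hZp) _ (hD₁.map (QuotientGroup.mk' Z)) rfl
    have h6 := PQ.step hp hq hpq Z (D.subgroupOf G₁) hZc hZp hZD h5
    -- transport to `G`
    have hle : Subgroup.centralizer (D : Set G) ≤ G₁ := by
      intro g hg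
      rw [hG₁, Subgroup.mem_centralizer_singleton_iff]
      exact (Subgroup.mem_centralizer_iff.1 hg _ (z : D).2).symm
    have heq : Subgroup.centralizer ((D.subgroupOf G₁ : Subgroup G₁) : Set G₁) =
        (Subgroup.centralizer (D : Set G)).subgroupOf G₁ := by
      ext g
      rw [Subgroup.mem_subgroupOf, Subgroup.mem_centralizer_iff, Subgroup.mem_centralizer_iff]
      constructor
      · intro h7 d hd
        exact congrArg Subtype.val (h7 ⟨d, hDG hd⟩ (Subgroup.mem_subgroupOf.2 hd))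
      · intro h7 d hd
        exact Subtype.ext (h7 (d : G) (Subgroup.mem_subgroupOf.1 hd))
    exact h6.of_equiv ((MulEquiv.subgroupCongr heq).trans (Subgroup.subgroupOfEquivOfLe hle))

theorem PQ.centralizer_subgroup [Finite G] (hp : p.Prime) (hq : q.Prime) (hpq : p ≠ q) (h : PQ p q G)
    (D : Subgroup G) (hD : IsPGroup p D) : PQ p q (Subgroup.centralizer (D : Set G)) :=
  PQ.centralizer_subgroup_aux hp hq hpq _ G h D hD rfl

end Cfsg.Agent.H358.A3
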